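import Mathlib
import Cfsg.Agent.Lib.LinGroup.Order

/-!
The two elementary abelian subgroups of order 16 in a Sylow 2-subgroup of `PSL₃(4)`: self-centralising, with
normaliser a split extension by `SL₂(4)` transitive on the non-identity elements.
-/

set_option autoImplicit false

namespace Cfsg.Agent.Lib.LThreeFour

open Matrix
open scoped MatrixGroups

variable (F : Type*) [Field F]

/-- the properties of a transvection group -/
structure Good {G : Type*} [Group G] (A : Subgroup G) : Prop where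
  cent : Subgroup.centralizer (A : Set G) ≤ A
  trans : ∀ a ∈ A, ∀ b ∈ A, a ≠ 1 → b ≠ 1 → ∃ g ∈ Subgroup.normalizer (A : Set G), g * a * g⁻¹ = b
  compl : ∃ L : Subgroup G, L ≤ Subgroup.normalizer (A : Set G) ∧ L ⊓ A = ⊥ ∧
    A ⊔ L = Subgroup.normalizer (A : Set G) ∧
    Nonempty (↥L ≃* ProjectiveSpecialLinearGroup (Fin 2) F)

variable {F}

theorem Good.map {G : Type*} [Group G] {A : Subgroup G} (h : Good F A) (e : G ≃* G) :
    Good F (A.map e.toMonoidHom) := by
  have hnorm : Subgroup.normalizer ((A.map e.toMonoidHom : Subgroup G) : Set G) =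
      (Subgroup.normalizer (A : Set G)).map e.toMonoidHom :=
    (Subgroup.map_equiv_normalizer_eq A e).symm
  refine ⟨fun x hx => ?_, ?_, ?_⟩
  · refine ⟨e.symm x, h.cent fun a ha => e.injective ?_, e.apply_symm_apply x⟩
    have h1 := hx (e a) (Subgroup.mem_map_of_mem _ ha)
    simpa using h1
  · rintro _ ⟨a, ha, rfl⟩ _ ⟨b, hb, rfl⟩ ha1 hb1
    obtain ⟨g, hg, hgab⟩ := h.trans a ha b hb (fun e1 => ha1 (by simp [e1])) (fun e1 => hb1 (by simp [e1]))
    refine ⟨e g, hnorm ▸ Subgroup.mem_map_of_mem _ hg, ?_⟩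
    simp [← hgab]
  · obtain ⟨L, h1, h2, h3, ⟨f⟩⟩ := h.compl
    refine ⟨L.map e.toMonoidHom, hnorm ▸ Subgroup.map_mono h1, ?_, ?_, ⟨(e.subgroupMap L).symm.trans f⟩⟩
    · rw [← Subgroup.map_inf _ _ _ e.injective, h2, Subgroup.map_bot]
    · rw [← Subgroup.map_sup, h3, hnorm]

/-- upper unitriangular matrix -/
def uMat (a b c : F) : SL(3, F) :=
  ⟨!![1, a, c; 0, 1, b; 0, 0, 1], by simp [Matrix.det_fin_three]⟩

local notation:max "↟" x:max => ((x : SpecialLinearGroup (Fin 3) F) : Matrix (Fin 3) (Fin 3) F)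
local notation:max "↡" x:max => ((x : SpecialLinearGroup (Fin 2) F) : Matrix (Fin 2) (Fin 2) F)

theorem uMat_coe (a b c : F) : ↟(uMat a b c) = !![1, a, c; 0, 1, b; 0, 0, 1] := rfl

theorem uMat_mul (a b c a' b' c' : F) :
    uMat a b c * uMat a' b' c' = uMat (a + a') (b + b') (c + c' + a * b') := by
  ext i j
  rw [Matrix.SpecialLinearGroup.coe_mul]
  fin_cases i <;> fin_cases j <;> simp [uMat_coe, Matrix.mul_apply, Fin.sum_univ_three] <;> ring

theorem uMat_inj {a b c a' b' c' : F} (h : uMat a b c = uMat a' b' c') : a = a' ∧ b = b' ∧ c = c' :=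
  ⟨by simpa [uMat_coe] using congrArg (fun M : SL(3, F) => ↟M 0 1) h,
    by simpa [uMat_coe] using congrArg (fun M : SL(3, F) => ↟M 1 2) h,
    by simpa [uMat_coe] using congrArg (fun M : SL(3, F) => ↟M 0 2) h⟩

theorem uMat_zero : uMat (0 : F) 0 0 = 1 := by
  ext i j
  fin_cases i <;> fin_cases j <;> simp [uMat]

/-- unitriangular group -/
def uSub : Subgroup SL(3, F) where
  carrier := {x | ∃ a b c, uMat a b c = x}
  one_mem' := ⟨0, 0, 0, uMat_zero⟩
  mul_mem' := by
    rintro _ _ ⟨a, b, c, rfl⟩ ⟨a', b', c', rfl⟩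
    exact ⟨_, _, _, (uMat_mul a b c a' b' c').symm⟩
  inv_mem' := by
    rintro _ ⟨a, b, c, rfl⟩
    refine ⟨-a, -b, -c + a * b, eq_inv_of_mul_eq_one_left ?_⟩
    rw [uMat_mul, ← uMat_zero]
    congr 1 <;> ring

/-- transvections in the first row -/
def rowHom : Multiplicative (F × F) →* SL(3, F) where
  toFun v := uMat (Multiplicative.toAdd v).1 0 (Multiplicative.toAdd v).2
  map_one' := uMat_zero
  map_mul' v w := by rw [uMat_mul]; simp

/-- transvections in the last column -/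
def colHom : Multiplicative (F × F) →* SL(3, F) where
  toFun v := uMat 0 (Multiplicative.toAdd v).1 (Multiplicative.toAdd v).2
  map_one' := uMat_zero
  map_mul' v w := by rw [uMat_mul]; simp

local notation "π" => QuotientGroup.mk' (Subgroup.center (SpecialLinearGroup (Fin 3) F))

variable (F) in
/-- the image of the row group -/
def rowSub : Subgroup (ProjectiveSpecialLinearGroup (Fin 3) F) := (rowHom (F := F)).range.map π

variable (F) in
/-- the image of the column group -/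
def colSub : Subgroup (ProjectiveSpecialLinearGroup (Fin 3) F) := (colHom (F := F)).range.map π

variable (F) in
/-- the image of the unitriangular group -/
def uTop : Subgroup (ProjectiveSpecialLinearGroup (Fin 3) F) := (uSub (F := F)).map π

theorem mk_eq_iff {x y : SL(3, F)} : π x = π y ↔ ∃ t : F, ↟y = t • ↟x := by
  rw [QuotientGroup.mk'_eq_mk']
  constructor
  · rintro ⟨z, hz, rfl⟩
    obtain ⟨t, -, ht⟩ := Matrix.SpecialLinearGroup.mem_center_iff.1 hz
    refine ⟨t, ?_⟩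
    rw [Matrix.SpecialLinearGroup.coe_mul, ← ht]
    simp [← Matrix.smul_one_eq_diagonal]
  · rintro ⟨t, ht⟩
    refine ⟨x⁻¹ * y, Matrix.SpecialLinearGroup.mem_center_iff.2 ⟨t, ?_, ?_⟩, by rw [mul_inv_cancel_left]⟩
    · have h := congrArg Matrix.det ht
      rw [Matrix.det_smul, x.2, y.2, mul_one, Fintype.card_fin] at h
      simpa using h.symm
    · rw [Matrix.SpecialLinearGroup.coe_mul, ht, Matrix.mul_smul, ← Matrix.SpecialLinearGroup.coe_mul, inv_mul_cancel,
        Matrix.SpecialLinearGroup.coe_one]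
      simp [← Matrix.smul_one_eq_diagonal]

theorem mk_uMat_inj {a b c a' b' c' : F} (h : π (uMat a b c) = π (uMat a' b' c')) :
    a = a' ∧ b = b' ∧ c = c' := by
  obtain ⟨t, ht⟩ := mk_eq_iff.1 h
  have h1 : t = 1 := by simpa [uMat_coe] using (congrFun (congrFun ht 0) 0).symm
  rw [h1, one_smul] at ht
  exact uMat_inj (Subtype.ext ht.symm)

theorem mem_uTop {x : ProjectiveSpecialLinearGroup (Fin 3) F} :
    x ∈ uTop F ↔ ∃ a b c, π (uMat a b c) = x := by
  constructor
  · rintro ⟨_, ⟨a, b, c, rfl⟩, rfl⟩; exact ⟨a, b, c, rfl⟩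
  · rintro ⟨a, b, c, rfl⟩; exact ⟨_, ⟨a, b, c, rfl⟩, rfl⟩

theorem mem_rowSub {x : ProjectiveSpecialLinearGroup (Fin 3) F} :
    x ∈ rowSub F ↔ ∃ a c, π (uMat a 0 c) = x := by
  constructor
  · rintro ⟨_, ⟨v, rfl⟩, rfl⟩; exact ⟨_, _, rfl⟩
  · rintro ⟨a, c, rfl⟩; exact ⟨_, ⟨Multiplicative.ofAdd (a, c), rfl⟩, rfl⟩

theorem mem_colSub {x : ProjectiveSpecialLinearGroup (Fin 3) F} :
    x ∈ colSub F ↔ ∃ b c, π (uMat 0 b c) = x := by
  constructor
  · rintro ⟨_, ⟨v, rfl⟩, rfl⟩; exact ⟨_, _, rfl⟩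
  · rintro ⟨a, c, rfl⟩; exact ⟨_, ⟨Multiplicative.ofAdd (a, c), rfl⟩, rfl⟩

theorem row_sup_col : rowSub F ⊔ colSub F = uTop F := by
  refine le_antisymm (sup_le ?_ ?_) ?_
  · intro x hx
    obtain ⟨a, c, rfl⟩ := mem_rowSub.1 hx
    exact mem_uTop.2 ⟨_, _, _, rfl⟩
  · intro x hx
    obtain ⟨a, c, rfl⟩ := mem_colSub.1 hx
    exact mem_uTop.2 ⟨_, _, _, rfl⟩
  · intro x hx
    obtain ⟨a, b, c, rfl⟩ := mem_uTop.1 hx
    have h : uMat a b c = uMat 0 b c * uMat a 0 0 := by
      rw [uMat_mul]; congr 1 <;> ring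
    rw [h, map_mul]
    exact mul_mem (Subgroup.mem_sup_right (mem_colSub.2 ⟨_, _, rfl⟩))
      (Subgroup.mem_sup_left (mem_rowSub.2 ⟨_, _, rfl⟩))

theorem card_uTop : Nat.card (uTop F) = Nat.card F ^ 3 := by
  let f : F × F × F → uTop F := fun v => ⟨π (uMat v.1 v.2.1 v.2.2), mem_uTop.2 ⟨_, _, _, rfl⟩⟩
  rw [← Nat.card_congr (Equiv.ofBijective f ⟨fun v w h => ?_, fun ⟨x, hx⟩ => ?_⟩), Nat.card_prod, Nat.card_prod]
  · ring
  · obtain ⟨h1, h2, h3⟩ := mk_uMat_inj (congrArg Subtype.val h)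
    exact Prod.ext h1 (Prod.ext h2 h3)
  · obtain ⟨a, b, c, rfl⟩ := mem_uTop.1 hx
    exact ⟨(a, b, c), rfl⟩

theorem card_rowSub : Nat.card (rowSub F) = Nat.card F ^ 2 := by
  let f : F × F → rowSub F := fun v => ⟨π (uMat v.1 0 v.2), mem_rowSub.2 ⟨_, _, rfl⟩⟩
  rw [← Nat.card_congr (Equiv.ofBijective f ⟨fun v w h => ?_, fun ⟨x, hx⟩ => ?_⟩), Nat.card_prod]
  · ring
  · obtain ⟨h1, -, h3⟩ := mk_uMat_inj (congrArg Subtype.val h)
    exact Prod.ext h1 h3
  · obtain ⟨a, c, rfl⟩ := mem_rowSub.1 hx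
    exact ⟨(a, c), rfl⟩

theorem card_colSub : Nat.card (colSub F) = Nat.card F ^ 2 := by
  let f : F × F → colSub F := fun v => ⟨π (uMat 0 v.1 v.2), mem_colSub.2 ⟨_, _, rfl⟩⟩
  rw [← Nat.card_congr (Equiv.ofBijective f ⟨fun v w h => ?_, fun ⟨x, hx⟩ => ?_⟩), Nat.card_prod]
  · ring
  · obtain ⟨-, h2, h3⟩ := mk_uMat_inj (congrArg Subtype.val h)
    exact Prod.ext h2 h3
  · obtain ⟨a, c, rfl⟩ := mem_colSub.1 hx
    exact ⟨(a, c), rfl⟩

section Four

variable [Fintype F]

theorem charTwo (hF : Fintype.card F = 4) : CharP F 2 := by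
  obtain ⟨p, hp⟩ := CharP.exists F
  haveI := hp
  obtain ⟨e, hpr, he⟩ := FiniteField.card F p
  rw [hF] at he
  have h2 : p ∣ 2 ^ 2 := ⟨p ^ ((e : ℕ) - 1), by rw [← pow_succ', Nat.sub_add_cancel e.pos, ← he]; norm_num⟩
  exact (Nat.prime_dvd_prime_iff_eq hpr Nat.prime_two).1 (hpr.dvd_of_dvd_pow h2) ▸ hp

theorem cube (hF : Fintype.card F = 4) {d : F} (hd : d ≠ 0) : d ^ 3 = 1 := by
  have := FiniteField.pow_card_sub_one_eq_one d hd
  rwa [hF] at this

theorem index_uTop (hF : Fintype.card F = 4) : ¬ 2 ∣ (uTop F).index := by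
  have h := LinGroup.card_PSL_mul (F := F) 3 (by norm_num)
  rw [hF, Fin.prod_univ_three] at h
  norm_num at h
  have h2 := (uTop F).card_mul_index
  rw [card_uTop, Nat.card_eq_fintype_card, hF] at h2
  intro h3
  obtain ⟨t, ht⟩ := h3
  rw [ht] at h2
  omega

/-- elementary abelian subgroups of order 16 of the unitriangular group -/
theorem row_or_col (hF : Fintype.card F = 4) (E : Subgroup (ProjectiveSpecialLinearGroup (Fin 3) F))
    (hE : E ≤ uTop F) (hsq : ∀ x ∈ E, x ^ 2 = 1) (hcard : Nat.card E = 16) :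
    E = rowSub F ∨ E = colSub F := by
  haveI := charTwo hF
  have hcomm : ∀ x ∈ E, ∀ y ∈ E, x * y = y * x := by
    intro x hx y hy
    have h := hsq _ (mul_mem hx hy)
    have e1 : ∀ z ∈ E, z⁻¹ = z := fun z hz => inv_eq_of_mul_eq_one_right (by rw [← sq, hsq z hz])
    calc x * y = (x * y)⁻¹ := (e1 _ (mul_mem hx hy)).symm
      _ = y * x := by rw [_root_.mul_inv_rev, e1 x hx, e1 y hy]
  have hc4 : Nat.card F ^ 2 = 16 := by rw [Nat.card_eq_fintype_card, hF]; norm_num
  haveI : Finite (ProjectiveSpecialLinearGroup (Fin 3) F) := inferInstance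
  by_cases h : ∀ x ∈ E, ∀ a b c, π (uMat a b c) = x → a = 0
  · right
    refine Subgroup.eq_of_le_of_card_ge (fun x hx => ?_) (by rw [card_colSub, hcard, hc4])
    obtain ⟨a, b, c, rfl⟩ := mem_uTop.1 (hE hx)
    obtain rfl := h _ hx a b c rfl
    exact mem_colSub.2 ⟨_, _, rfl⟩
  · left
    push Not at h
    obtain ⟨x, hx, a, b, c, rfl, ha⟩ := h
    have hb : b = 0 := by
      have h1 := hsq _ hx
      rw [sq, ← map_mul, uMat_mul, CharTwo.add_self_eq_zero, CharTwo.add_self_eq_zero, CharTwo.add_self_eq_zero,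
        zero_add, ← map_one π, ← uMat_zero] at h1
      exact (mul_eq_zero.1 (mk_uMat_inj h1).2.2).resolve_left ha
    subst hb
    refine Subgroup.eq_of_le_of_card_ge (fun y hy => ?_) (by rw [card_rowSub, hcard, hc4])
    obtain ⟨a', b', c', rfl⟩ := mem_uTop.1 (hE hy)
    have h1 := hcomm _ hx _ hy
    rw [← map_mul, ← map_mul, uMat_mul, uMat_mul] at h1
    have h2 := (mk_uMat_inj h1).2.2
    have hb' : b' = 0 := (mul_eq_zero.1 (show a * b' = 0 by linear_combination h2)).resolve_left ha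
    subst hb'
    exact mem_rowSub.2 ⟨_, _, rfl⟩

/-- `diag(1, h)` -/
def lHom : SL(2, F) →* SL(3, F) where
  toFun h := ⟨!![1, 0, 0; 0, ↡h 0 0, ↡h 0 1; 0, ↡h 1 0, ↡h 1 1], by
    have := h.2
    rw [Matrix.det_fin_two] at this
    simpa [Matrix.det_fin_three] using this⟩
  map_one' := by ext i j; fin_cases i <;> fin_cases j <;> simp
  map_mul' h k := by
    refine Subtype.ext ?_
    show _ = (!![1, 0, 0; 0, ↡h 0 0, ↡h 0 1; 0, ↡h 1 0, ↡h 1 1] : Matrix (Fin 3) (Fin 3) F) *
      !![1, 0, 0; 0, ↡k 0 0, ↡k 0 1; 0, ↡k 1 0, ↡k 1 1]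
    ext i j
    fin_cases i <;> fin_cases j <;> simp [Matrix.mul_apply, Fin.sum_univ_three, Fin.sum_univ_two]

theorem lHom_coe (h : SL(2, F)) :
    ↟(lHom h) = !![1, 0, 0; 0, ↡h 0 0, ↡h 0 1; 0, ↡h 1 0, ↡h 1 1] := rfl

omit [Fintype F] in
theorem exists_sl2 (a b c d : F) (h : a * d - b * c = 1) :
    ∃ k : SL(2, F), ↡k 0 0 = a ∧ ↡k 0 1 = b ∧ ↡k 1 0 = c ∧ ↡k 1 1 = d :=
  ⟨⟨!![a, b; c, d], by rw [Matrix.det_fin_two]; simpa using h⟩, rfl, rfl, rfl, rfl⟩

theorem good_row (hF : Fintype.card F = 4) : Good F (rowSub F) := by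
  haveI := charTwo hF
  haveI : Finite (ProjectiveSpecialLinearGroup (Fin 3) F) := inferInstance
  have htr : ∀ (g : SL(3, F)) (a c a' c' : F),
      π g * π (uMat a 0 c) * (π g)⁻¹ = π (uMat a' 0 c') → ↟g * ↟(uMat a 0 c) = ↟(uMat a' 0 c') * ↟g := by
    intro g a c a' c' h
    rw [← map_inv, ← map_mul, ← map_mul] at h
    obtain ⟨t, ht⟩ := mk_eq_iff.1 h
    have h1 := congrArg Matrix.trace ht
    rw [Matrix.trace_smul, Matrix.SpecialLinearGroup.coe_mul, Matrix.trace_mul_comm, ← Matrix.SpecialLinearGroup.coe_mul,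
      inv_mul_cancel_left] at h1
    have h3 : (3 : F) = 1 := by linear_combination CharTwo.two_eq_zero (R := F)
    have e : ∀ x y : F, (↟(uMat x 0 y)).trace = 1 := fun x y => by
      simp [uMat_coe, Matrix.trace_fin_three]; linear_combination h3
    rw [e, e, smul_eq_mul, mul_one] at h1
    rw [← h1, one_smul] at ht
    rw [ht, ← Matrix.SpecialLinearGroup.coe_mul, ← Matrix.SpecialLinearGroup.coe_mul, inv_mul_cancel_right]
  have hsc : ∀ (g : SL(3, F)) (d : F), d ≠ 0 → ∃ g' : SL(3, F), π g' = π g ∧ ↟g' = d • ↟g := by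
    intro g d hd
    exact ⟨⟨d • ↟g, by rw [Matrix.det_smul, Fintype.card_fin, cube hF hd, g.2, one_mul]⟩,
      (mk_eq_iff.2 ⟨d, rfl⟩).symm, rfl⟩
  have hL : ∀ h : SL(2, F), π (lHom h) ∈ Subgroup.normalizer (rowSub F : Set (ProjectiveSpecialLinearGroup (Fin 3) F)) := by
    intro h
    rw [Subgroup.mem_normalizer_iff_map_conj_eq]
    refine Subgroup.eq_of_le_of_card_ge ?_ (le_of_eq ?_)
    · rintro _ ⟨x, hx, rfl⟩
      obtain ⟨a, c, rfl⟩ := mem_rowSub.1 hx
      refine mem_rowSub.2 ⟨a * ↡h 1 1 - c * ↡h 1 0, -a * ↡h 0 1 + c * ↡h 0 0, ?_⟩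
      show _ = π (lHom h) * π (uMat a 0 c) * (π (lHom h))⁻¹
      rw [eq_mul_inv_iff_mul_eq, ← map_mul, ← map_mul]
      congr 1
      have hd : (↡h).det = 1 := h.2
      rw [Matrix.det_fin_two] at hd
      ext i j
      rw [Matrix.SpecialLinearGroup.coe_mul, Matrix.SpecialLinearGroup.coe_mul]
      fin_cases i <;> fin_cases j <;> simp [uMat_coe, lHom_coe, Matrix.mul_apply, Fin.sum_univ_three]
      · linear_combination a * hd
      · linear_combination c * hd
    · exact (Nat.card_congr ((MulAut.conj (π (lHom h))).subgroupMap (rowSub F)).toEquiv)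
  refine ⟨fun x hx => ?_, ?_, ?_⟩
  · obtain ⟨g, rfl⟩ := QuotientGroup.mk'_surjective _ x
    have hc : ∀ a c : F, ↟g * ↟(uMat a 0 c) = ↟(uMat a 0 c) * ↟g := fun a c => htr g a c a c (by
      rw [mul_inv_eq_iff_eq_mul]
      exact (hx _ (mem_rowSub.2 ⟨a, c, rfl⟩)).symm)
    have e10 := hc 1 0
    have e01 := hc 0 1
    have f11 : ↟g 1 0 = 0 := by simpa [uMat_coe, Matrix.mul_apply, Fin.sum_univ_three] using congrFun (congrFun e10 1) 1
    have f21 : ↟g 2 0 = 0 := by simpa [uMat_coe, Matrix.mul_apply, Fin.sum_univ_three] using congrFun (congrFun e10 2) 1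
    have f01 : ↟g 1 1 = ↟g 0 0 := by
      have h := congrFun (congrFun e10 0) 1
      simp [uMat_coe, Matrix.mul_apply, Fin.sum_univ_three] at h
      linear_combination -h
    have f02 : ↟g 1 2 = 0 := by simpa [uMat_coe, Matrix.mul_apply, Fin.sum_univ_three, f11] using (congrFun (congrFun e10 0) 2).symm
    have g01 : ↟g 2 1 = 0 := by simpa [uMat_coe, Matrix.mul_apply, Fin.sum_univ_three, f21] using (congrFun (congrFun e01 0) 1).symm
    have g02 : ↟g 2 2 = ↟g 0 0 := by
      have h := congrFun (congrFun e01 0) 2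
      simp [uMat_coe, Matrix.mul_apply, Fin.sum_univ_three] at h
      linear_combination -h
    have hd : (↟g).det = 1 := g.2
    rw [Matrix.det_fin_three, f11, f21, f01, f02, g01, g02] at hd
    have hg0 : ↟g 0 0 ≠ 0 := fun h => by simp [h] at hd
    refine mem_rowSub.2 ⟨(↟g 0 0)⁻¹ * ↟g 0 1, (↟g 0 0)⁻¹ * ↟g 0 2, mk_eq_iff.2 ⟨↟g 0 0, ?_⟩⟩
    ext i j
    fin_cases i <;> fin_cases j <;> simp [uMat_coe, f11, f21, f01, f02, g01, g02, mul_inv_cancel_left₀ hg0]
  · have key : ∀ a c : F, (a ≠ 0 ∨ c ≠ 0) → ∃ h : SL(2, F),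
        π (lHom h) * π (uMat a 0 c) * (π (lHom h))⁻¹ = π (uMat 1 0 0) := by
      intro a c hac
      by_cases ha : a = 0
      · subst ha
        have hc : c ≠ 0 := hac.resolve_left (by simp)
        obtain ⟨k, k1, k2, k3, k4⟩ := exists_sl2 0 c c⁻¹ 0 (by simp [hc, CharTwo.neg_eq])
        refine ⟨k, ?_⟩
        rw [mul_inv_eq_iff_eq_mul, ← map_mul, ← map_mul]
        congr 1
        ext i j
        rw [Matrix.SpecialLinearGroup.coe_mul, Matrix.SpecialLinearGroup.coe_mul]
        fin_cases i <;> fin_cases j <;> simp [uMat_coe, lHom_coe, Matrix.mul_apply, Fin.sum_univ_three, hc, k1, k2, k3, k4]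
      · obtain ⟨k, k1, k2, k3, k4⟩ := exists_sl2 a c 0 a⁻¹ (by simp [ha])
        refine ⟨k, ?_⟩
        rw [mul_inv_eq_iff_eq_mul, ← map_mul, ← map_mul]
        congr 1
        ext i j
        rw [Matrix.SpecialLinearGroup.coe_mul, Matrix.SpecialLinearGroup.coe_mul]
        fin_cases i <;> fin_cases j <;> simp [uMat_coe, lHom_coe, Matrix.mul_apply, Fin.sum_univ_three, ha, k1, k2, k3, k4]
    intro x hx y hy hx1 hy1
    obtain ⟨a, c, rfl⟩ := mem_rowSub.1 hx
    obtain ⟨a', c', rfl⟩ := mem_rowSub.1 hy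
    obtain ⟨h, hh⟩ := key a c (by by_contra hn; push Not at hn; exact hx1 (by rw [hn.1, hn.2, uMat_zero, map_one]))
    obtain ⟨h', hh'⟩ := key a' c' (by by_contra hn; push Not at hn; exact hy1 (by rw [hn.1, hn.2, uMat_zero, map_one]))
    refine ⟨(π (lHom h'))⁻¹ * π (lHom h), mul_mem (inv_mem (hL h')) (hL h), ?_⟩
    rw [← hh'] at hh
    rw [_root_.mul_inv_rev, inv_inv]
    calc (π (lHom h'))⁻¹ * π (lHom h) * π (uMat a 0 c) * ((π (lHom h))⁻¹ * π (lHom h'))
        = (π (lHom h'))⁻¹ * (π (lHom h) * π (uMat a 0 c) * (π (lHom h))⁻¹) * π (lHom h') := by group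
      _ = _ := by rw [hh]; group
  · have hinj : Function.Injective ((π).comp (lHom (F := F))) := by
      intro h k e
      obtain ⟨t, ht⟩ := mk_eq_iff.1 e
      have h1 : t = 1 := by simpa [lHom_coe] using (congrFun (congrFun ht 0) 0).symm
      rw [h1, one_smul] at ht
      ext i j
      fin_cases i <;> fin_cases j
      · simpa [lHom_coe] using (congrFun (congrFun ht 1) 1).symm
      · simpa [lHom_coe] using (congrFun (congrFun ht 1) 2).symm
      · simpa [lHom_coe] using (congrFun (congrFun ht 2) 1).symm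
      · simpa [lHom_coe] using (congrFun (congrFun ht 2) 2).symm
    refine ⟨((π).comp (lHom (F := F))).range, ?_, ?_, ?_, ?_⟩
    · rintro _ ⟨h, rfl⟩; exact hL h
    · rw [Subgroup.eq_bot_iff_forall]
      rintro _ ⟨⟨h, rfl⟩, hx⟩
      obtain ⟨a, c, hac⟩ := mem_rowSub.1 hx
      obtain ⟨t, ht⟩ := mk_eq_iff.1 hac
      have h1 : t = 1 := by simpa [uMat_coe, lHom_coe] using (congrFun (congrFun ht 0) 0).symm
      rw [h1, one_smul] at ht
      have ha : a = 0 := by simpa [uMat_coe, lHom_coe] using (congrFun (congrFun ht 0) 1).symm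
      have hc : c = 0 := by simpa [uMat_coe, lHom_coe] using (congrFun (congrFun ht 0) 2).symm
      rw [← hac, ha, hc, uMat_zero, map_one]
    · refine le_antisymm (sup_le Subgroup.le_normalizer (by rintro _ ⟨h, rfl⟩; exact hL h)) fun x hx => ?_
      obtain ⟨g, rfl⟩ := QuotientGroup.mk'_surjective _ x
      obtain ⟨a, c, hac⟩ := mem_rowSub.1 ((Subgroup.mem_normalizer_iff.1 hx _).1 (mem_rowSub.2 ⟨1, 0, rfl⟩))
      obtain ⟨a', c', hac'⟩ := mem_rowSub.1 ((Subgroup.mem_normalizer_iff.1 hx _).1 (mem_rowSub.2 ⟨0, 1, rfl⟩))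
      have e1 := htr g 1 0 a c hac.symm
      have e2 := htr g 0 1 a' c' hac'.symm
      have f10 : ↟g 1 0 = 0 := by simpa [uMat_coe, Matrix.mul_apply, Fin.sum_univ_three] using congrFun (congrFun e1 1) 1
      have f20 : ↟g 2 0 = 0 := by simpa [uMat_coe, Matrix.mul_apply, Fin.sum_univ_three] using congrFun (congrFun e1 2) 1
      have hd0 : ↟g 0 0 ≠ 0 := by
        intro h
        have hd : (↟g).det = 1 := g.2
        rw [Matrix.det_fin_three, f10, f20, h] at hd
        simp at hd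
      obtain ⟨g', hg', hg'e⟩ := hsc g (↟g 0 0)⁻¹ (inv_ne_zero hd0)
      have p00 : ↟g' 0 0 = 1 := by rw [hg'e]; simp [hd0]
      have p10 : ↟g' 1 0 = 0 := by rw [hg'e]; simp [f10]
      have p20 : ↟g' 2 0 = 0 := by rw [hg'e]; simp [f20]
      have hd : (↟g').det = 1 := g'.2
      rw [Matrix.det_fin_three, p00, p10, p20] at hd
      obtain ⟨h, k1, k2, k3, k4⟩ := exists_sl2 (↟g' 1 1) (↟g' 1 2) (↟g' 2 1) (↟g' 2 2) (by linear_combination hd)
      have hg : g' = lHom h * uMat (↟g' 0 1) 0 (↟g' 0 2) := by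
        ext i j
        rw [Matrix.SpecialLinearGroup.coe_mul]
        fin_cases i <;> fin_cases j <;> simp [k1, k2, k3, k4, uMat_coe, lHom_coe, Matrix.mul_apply, Fin.sum_univ_three, p00, p10, p20]
      rw [← hg', hg, map_mul]
      exact mul_mem (Subgroup.mem_sup_right ⟨h, rfl⟩) (Subgroup.mem_sup_left (mem_rowSub.2 ⟨_, _, rfl⟩))
    · have hc : Subgroup.center SL(2, F) = ⊥ := by
        rw [Subgroup.eq_bot_iff_forall]
        intro z hz
        obtain ⟨t, ht, hzt⟩ := Matrix.SpecialLinearGroup.mem_center_iff.1 hz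
        have ht1 : t = 1 := by
          rw [Fintype.card_fin] at ht
          have h0 : (t + 1) ^ 2 = 0 := by rw [CharTwo.add_sq, ht, one_pow, CharTwo.add_self_eq_zero]
          exact CharTwo.add_eq_zero.1 (pow_eq_zero_iff two_ne_zero |>.1 h0)
        ext i j
        rw [← hzt, ht1]
        simp
      exact ⟨(MonoidHom.ofInjective hinj).symm.trans ((QuotientGroup.quotientBot).symm.trans
        (QuotientGroup.quotientMulEquivOfEq hc.symm))⟩

/-- transpose-inverse, reflected in the antidiagonal -/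
def flipFun (x : SL(3, F)) : SL(3, F) :=
  ⟨(↟(x⁻¹)).transpose.submatrix Fin.rev Fin.rev, by
    rw [show (Fin.rev : Fin 3 → Fin 3) = (Fin.revPerm : Equiv.Perm (Fin 3)) from rfl, Matrix.det_submatrix_equiv_self,
      Matrix.det_transpose]
    exact (x⁻¹).2⟩

theorem flipFun_coe (x : SL(3, F)) : ↟(flipFun x) = (↟(x⁻¹)).transpose.submatrix Fin.rev Fin.rev := rfl

theorem flipFun_mul (x y : SL(3, F)) : flipFun (x * y) = flipFun x * flipFun y := by
  apply Subtype.ext
  show (↟((x * y)⁻¹)).transpose.submatrix Fin.rev Fin.rev =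
    (↟(x⁻¹)).transpose.submatrix Fin.rev Fin.rev * (↟(y⁻¹)).transpose.submatrix Fin.rev Fin.rev
  rw [_root_.mul_inv_rev, Matrix.SpecialLinearGroup.coe_mul, Matrix.transpose_mul,
    ← Matrix.submatrix_mul _ _ _ _ _ Fin.rev_bijective]

theorem flipFun_flipFun (x : SL(3, F)) : flipFun (flipFun x) = x := by
  have h : (flipFun x)⁻¹ = flipFun x⁻¹ := by
    refine inv_eq_of_mul_eq_one_right ?_
    rw [← flipFun_mul, mul_inv_cancel]
    apply Subtype.ext
    show (↟((1 : SL(3, F))⁻¹)).transpose.submatrix Fin.rev Fin.rev = 1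
    rw [inv_one, Matrix.SpecialLinearGroup.coe_one, Matrix.transpose_one, Matrix.submatrix_one _ Fin.rev_injective]
  apply Subtype.ext
  show (↟((flipFun x)⁻¹)).transpose.submatrix Fin.rev Fin.rev = ↟x
  rw [h]
  ext i j
  simp [flipFun_coe]

/-- the graph automorphism -/
def flip : SL(3, F) ≃* SL(3, F) where
  toFun := flipFun
  invFun := flipFun
  left_inv := flipFun_flipFun
  right_inv := flipFun_flipFun
  map_mul' := flipFun_mul

theorem flip_uMat (hF : Fintype.card F = 4) (a b c : F) : flip (uMat a b c) = uMat b a (c + a * b) := by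
  haveI := charTwo hF
  have h : (uMat a b c)⁻¹ = uMat a b (c + a * b) := by
    refine inv_eq_of_mul_eq_one_right ?_
    rw [uMat_mul, ← uMat_zero]
    congr 1
    · exact CharTwo.add_self_eq_zero a
    · exact CharTwo.add_self_eq_zero b
    · linear_combination (c + a * b) * CharTwo.two_eq_zero (R := F)
  apply Subtype.ext
  show (↟((uMat a b c)⁻¹)).transpose.submatrix Fin.rev Fin.rev = _
  rw [h]
  ext i j
  fin_cases i <;> fin_cases j <;> simp [uMat_coe, Fin.rev]

theorem good_col (hF : Fintype.card F = 4) : Good F (colSub F) := by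
  let e : ProjectiveSpecialLinearGroup (Fin 3) F ≃* ProjectiveSpecialLinearGroup (Fin 3) F :=
    QuotientGroup.congr _ _ (flip (F := F))
      (Subgroup.characteristic_iff_map_eq.1 inferInstance _)
  have he : (rowSub F).map e.toMonoidHom = colSub F := by
    haveI : Finite (ProjectiveSpecialLinearGroup (Fin 3) F) := inferInstance
    refine Subgroup.eq_of_le_of_card_ge ?_ ?_
    · rintro _ ⟨x, hx, rfl⟩
      obtain ⟨a, c, rfl⟩ := mem_rowSub.1 hx
      refine mem_colSub.2 ⟨a, c, ?_⟩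
      show π _ = π (flip (uMat a 0 c))
      rw [flip_uMat hF, mul_zero, add_zero]
    · rw [card_colSub, Subgroup.card_map_of_injective (f := e.toMonoidHom) e.injective, card_rowSub]
  exact he ▸ (good_row hF).map e

/-- Two distinct elementary abelian subgroups of order 16 in a Sylow 2-subgroup. -/
theorem pair (hF : Fintype.card F = 4) (S : Sylow 2 (ProjectiveSpecialLinearGroup (Fin 3) F))
    (E E' : Subgroup (ProjectiveSpecialLinearGroup (Fin 3) F)) (hES : E ≤ S) (hE'S : E' ≤ S)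
    (hne : E ≠ E') (hsq : ∀ x ∈ E, x ^ 2 = 1) (hcard : Nat.card E = 16)
    (hsq' : ∀ x ∈ E', x ^ 2 = 1) (hcard' : Nat.card E' = 16) :
    Good F E ∧ Good F E' ∧ E ⊔ E' = S ∧ (S : Subgroup (ProjectiveSpecialLinearGroup (Fin 3) F)) ≤ Subgroup.normalizer (E : Set (ProjectiveSpecialLinearGroup (Fin 3) F)) ∧
      (S : Subgroup (ProjectiveSpecialLinearGroup (Fin 3) F)) ≤ Subgroup.normalizer (E' : Set (ProjectiveSpecialLinearGroup (Fin 3) F)) := by
  haveI : Finite (ProjectiveSpecialLinearGroup (Fin 3) F) := inferInstance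
  haveI := Fact.mk Nat.prime_two
  have hU2 : IsPGroup 2 (uTop F) := IsPGroup.of_card (n := 6) (by
    rw [card_uTop, Nat.card_eq_fintype_card, hF]; norm_num)
  let U : Sylow 2 (ProjectiveSpecialLinearGroup (Fin 3) F) := hU2.toSylow (index_uTop hF)
  obtain ⟨g, hg⟩ := MulAction.exists_smul_eq (ProjectiveSpecialLinearGroup (Fin 3) F) U S
  set e := MulAut.conj g with he
  have hS : (S : Subgroup (ProjectiveSpecialLinearGroup (Fin 3) F)) = (uTop F).map e.toMonoidHom := by
    rw [← hg]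
    rfl
  have key : ∀ D : Subgroup (ProjectiveSpecialLinearGroup (Fin 3) F), D ≤ S → (∀ x ∈ D, x ^ 2 = 1) →
      Nat.card D = 16 → ((D = (rowSub F).map e.toMonoidHom) ∨ D = (colSub F).map e.toMonoidHom) := by
    intro D hD hs hc
    have hDD : (D.map e.symm.toMonoidHom).map e.toMonoidHom = D := by
      rw [Subgroup.map_map]; simp
    rcases row_or_col hF (D.map e.symm.toMonoidHom) (by
        rintro _ ⟨x, hx, rfl⟩
        obtain ⟨u, hu, hux⟩ := hS ▸ hD hx
        rw [← hux]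
        simpa using hu) (by
        rintro _ ⟨x, hx, rfl⟩
        rw [← map_pow, hs x hx, map_one])
      (by rw [← hc]; exact (Nat.card_congr (e.symm.subgroupMap D).toEquiv).symm) with h | h
    · left; rw [← h, hDD]
    · right; rw [← h, hDD]
  have hn : ∀ A : Subgroup (ProjectiveSpecialLinearGroup (Fin 3) F), uTop F ≤ Subgroup.normalizer (A : Set (ProjectiveSpecialLinearGroup (Fin 3) F)) →
      (S : Subgroup (ProjectiveSpecialLinearGroup (Fin 3) F)) ≤ Subgroup.normalizer ((A.map e.toMonoidHom : Subgroup (ProjectiveSpecialLinearGroup (Fin 3) F)) : Set (ProjectiveSpecialLinearGroup (Fin 3) F)) := by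
    intro A hA
    rw [hS, ← Subgroup.map_equiv_normalizer_eq A e]
    exact Subgroup.map_mono hA
  haveI := charTwo hF
  have hnr : uTop F ≤ Subgroup.normalizer (rowSub F : Set (ProjectiveSpecialLinearGroup (Fin 3) F)) := by
    refine le_normalizer_of (rowSub F) fun x hx y hy => ?_
    obtain ⟨a, b, c, rfl⟩ := mem_uTop.1 hx
    obtain ⟨a', c', rfl⟩ := mem_rowSub.1 hy
    refine mem_rowSub.2 ⟨a', c' - a' * b, ?_⟩
    rw [eq_mul_inv_iff_mul_eq, ← map_mul, ← map_mul, uMat_mul, uMat_mul]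
    congr 2 <;> ring
  have hnc : uTop F ≤ Subgroup.normalizer (colSub F : Set (ProjectiveSpecialLinearGroup (Fin 3) F)) := by
    refine le_normalizer_of (colSub F) fun x hx y hy => ?_
    obtain ⟨a, b, c, rfl⟩ := mem_uTop.1 hx
    obtain ⟨b', c', rfl⟩ := mem_colSub.1 hy
    refine mem_colSub.2 ⟨b', c' + a * b', ?_⟩
    rw [eq_mul_inv_iff_mul_eq, ← map_mul, ← map_mul, uMat_mul, uMat_mul]
    congr 2 <;> ring
  have hsup : (rowSub F).map e.toMonoidHom ⊔ (colSub F).map e.toMonoidHom = S := by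
    rw [← Subgroup.map_sup, row_sup_col, hS]
  rcases key E hES hsq hcard with h | h <;> rcases key E' hE'S hsq' hcard' with h' | h' <;>
    subst h <;> subst h'
  · exact absurd rfl hne
  · exact ⟨(good_row hF).map e, (good_col hF).map e, hsup, hn _ hnr, hn _ hnc⟩
  · exact ⟨(good_col hF).map e, (good_row hF).map e, by rw [sup_comm]; exact hsup, hn _ hnc, hn _ hnr⟩
  · exact absurd rfl hne
where
  le_normalizer_of (A : Subgroup (ProjectiveSpecialLinearGroup (Fin 3) F))
      (h : ∀ x ∈ uTop F, ∀ y ∈ A, x * y * x⁻¹ ∈ A) : uTop F ≤ Subgroup.normalizer (A : Set (ProjectiveSpecialLinearGroup (Fin 3) F)) := by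
    intro x hx
    refine Subgroup.mem_normalizer_iff.2 fun y => ⟨h x hx y, fun hy => ?_⟩
    have := h x⁻¹ (inv_mem hx) _ hy
    simpa [mul_assoc] using this

end Four

end Cfsg.Agent.Lib.LThreeFour
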